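import Cfsg.Agent.Lib.Coprime.Generation
import Cfsg.Agent.Lib.Core.Basic

/-!
# The transitivity theorem for balanced families
-/

set_option autoImplicit false
set_option linter.unusedSectionVars false

namespace Cfsg.Lib.Transit

open Subgroup
open scoped commutatorElement

variable {G : Type*} [Group G] [Finite G]

/-- The `B`-invariant `q`-subgroups bound to `θ`. -/
def Fam (q : ℕ) (B E : Subgroup G) (θ : G → Subgroup G) : Set (Subgroup G) :=
  {R | IsPGroup q R ∧ B ≤ normalizer (R : Set G) ∧ ∀ e ∈ E, e ≠ 1 → R ⊓ centralizer ({e} : Set G) ≤ θ e}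

theorem exists_max {q : ℕ} {B E : Subgroup G} {θ : G → Subgroup G} {R : Subgroup G} (h : R ∈ Fam q B E θ) :
    ∃ Q, R ≤ Q ∧ Maximal (fun W => W ∈ Fam q B E θ) Q :=
  Finite.exists_le_maximal (p := fun W => W ∈ Fam q B E θ) h

theorem relIndex_sup_normalized {D T : Subgroup G} (h : T ≤ normalizer (D : Set G)) :
    D.relIndex (D ⊔ T) = D.relIndex T := by
  have hD : D ≤ normalizer (D : Set G) := le_normalizer
  haveI : (D.subgroupOf (normalizer (D : Set G))).Normal := (normal_subgroupOf_iff_le_normalizer hD).2 le_rfl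
  rw [← relIndex_subgroupOf (H := D) (sup_le hD h), ← relIndex_subgroupOf (H := D) h, subgroupOf_sup hD h]
  exact relIndex_sup_left _ _

variable {p : ℕ} [hp : Fact p.Prime] {q : ℕ} [hq : Fact q.Prime]

/-- Elements of `D * T` fixed by a coprime group lie in the product of the fixed points. -/
theorem mul_fixed {D T P : Subgroup G} (hPT : P ≤ normalizer (T : Set G)) (hPD : P ≤ normalizer (D : Set G))
    (hsol : Group.IsSolvable P)
    (hcop : (Nat.card P).Coprime (Nat.card T)) (hTD : T ≤ normalizer (D : Set G)) {d t : G} (hd : d ∈ D) (ht : t ∈ T)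
    (hl : d * t ∈ centralizer (P : Set G)) :
    ∃ d' ∈ D ⊓ centralizer (P : Set G), ∃ t' ∈ T ⊓ centralizer (P : Set G), d * t = d' * t' := by
  obtain ⟨n, hn, c, hc, htc⟩ := Cfsg.Lib.Coprime.exists_mul_centralizer_of_commutator_mem hPT hcop (Or.inl hsol)
    (N := T ⊓ D) inf_le_left ((le_inf hPT hPD).trans inf_normalizer_le_normalizer_inf) ht fun a ha => by
      refine mem_inf.2 ⟨?_, ?_⟩
      · exact Cfsg.Lib.Coprime.commutator_le_of_le_normalizer hPT (commutator_mem_commutator ht ha)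
      · have h1 := mem_centralizer_iff.1 hl a ha
        have e : ⁅t, a⁆ = d⁻¹ * (a * d * a⁻¹) := by
          rw [commutatorElement_def]
          calc t * a * t⁻¹ * a⁻¹ = d⁻¹ * (d * t * a) * t⁻¹ * a⁻¹ := by group
            _ = d⁻¹ * (a * (d * t)) * t⁻¹ * a⁻¹ := by rw [h1]
            _ = d⁻¹ * (a * d * a⁻¹) := by group
        rw [e]
        exact mul_mem (inv_mem hd) ((mem_normalizer_iff.1 (hPD ha) _).1 hd)
  refine ⟨d * n, mem_inf.2 ⟨mul_mem hd hn.2, ?_⟩, c, hc, by rw [htc, mul_assoc]⟩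
  have : d * n = d * t * c⁻¹ := by rw [htc]; group
  rw [this]
  exact mul_mem hl (inv_mem (mem_inf.1 hc).2)

/-- An abelian group of exponent `p` and order at least `p ^ 3` has a nontrivial element in any two of its
subgroups with cyclic quotient. -/
theorem exists_common {E : Subgroup G} (hEa : IsMulCommutative E) (hEe : ∀ e ∈ E, e ^ p = 1)
    (hE3 : p ^ 3 ≤ Nat.card E) {B₁ B₂ : Subgroup G} (h1 : B₁ ∈ Cfsg.Lib.Coprime.cocyclic E)
    (h2 : B₂ ∈ Cfsg.Lib.Coprime.cocyclic E) : ∃ a ∈ E, a ≠ 1 ∧ a ∈ B₁ ∧ a ∈ B₂ := by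
  have hidx : ∀ B' ∈ Cfsg.Lib.Coprime.cocyclic E, Nat.card E ≤ Nat.card B' * p := by
    rintro B' ⟨hB', a, ha, hsup⟩
    have hn : zpowers a ≤ normalizer (B' : Set G) := by
      refine le_trans (fun x hx => mem_centralizer_iff.2 fun y hy => ?_) (centralizer_le_normalizer _)
      exact congrArg Subtype.val (hEa.is_comm.comm ⟨y, hB' hy⟩ ⟨x, (zpowers_le.2 ha) hx⟩)
    have hr : B'.relIndex (zpowers a) ∣ p := by
      refine (relIndex_dvd_card _ _).trans ?_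
      rw [Nat.card_zpowers]
      exact orderOf_dvd_of_pow_eq_one (hEe a ha)
    have e : B'.relIndex E = B'.relIndex (zpowers a) := by
      rw [← hsup, relIndex_sup_normalized hn]
    rw [← Cfsg.Lib.Core.card_mul_relIndex hB', e]
    exact Nat.mul_le_mul_left _ (Nat.le_of_dvd hp.out.pos hr)
  have hd : Nat.card B₁ * Nat.card B₂ ≤ Nat.card ↥(B₁ ⊓ B₂) * Nat.card E := by
    have e1 := Cfsg.Lib.Core.card_mul_relIndex (inf_le_right : B₁ ⊓ B₂ ≤ B₂)
    rw [inf_relIndex_right] at e1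
    have e2 : B₁.relIndex B₂ ≤ B₁.relIndex E := relIndex_le_of_le_right h2.1 (by rw [relIndex]; exact index_ne_zero_of_finite)
    calc Nat.card B₁ * Nat.card B₂ = Nat.card ↥(B₁ ⊓ B₂) * (Nat.card B₁ * B₁.relIndex B₂) := by
          conv_lhs => rw [← e1]
          ring
      _ ≤ Nat.card ↥(B₁ ⊓ B₂) * (Nat.card B₁ * B₁.relIndex E) :=
          Nat.mul_le_mul_left _ (Nat.mul_le_mul_left _ e2)
      _ = _ := by rw [Cfsg.Lib.Core.card_mul_relIndex h1.1]
  have hne : B₁ ⊓ B₂ ≠ ⊥ := by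
    intro hb
    rw [hb, Subgroup.card_bot, one_mul] at hd
    have a1 := hidx B₁ h1
    have a2 := hidx B₂ h2
    have h4 : Nat.card E * Nat.card E ≤ Nat.card E * (p * p) := by
      calc Nat.card E * Nat.card E ≤ (Nat.card B₁ * p) * (Nat.card B₂ * p) := Nat.mul_le_mul a1 a2
        _ = Nat.card B₁ * Nat.card B₂ * (p * p) := by ring
        _ ≤ _ := Nat.mul_le_mul_right _ hd
    have h5 := Nat.le_of_mul_le_mul_left h4 Nat.card_pos
    have h6 : p * p < p ^ 3 := by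
      rw [pow_succ, pow_two]
      exact lt_mul_of_one_lt_right (Nat.mul_pos hp.out.pos hp.out.pos) hp.out.one_lt
    omega
  obtain ⟨a, ha, ha1⟩ := (B₁ ⊓ B₂).bot_or_exists_ne_one.resolve_left hne
  exact ⟨a, h1.1 ha.1, ha1, ha.1, ha.2⟩

/-- The transitivity theorem: maximal members of the family are conjugate by elements of `(⋂ θ e) ∩ C(B)`. -/
theorem transitivity {B E : Subgroup G} {θ : G → Subgroup G} (hBp : IsPGroup p B) (hBa : IsMulCommutative B)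
    (hEB : E ≤ B) (hEe : ∀ e ∈ E, e ^ p = 1) (hE3 : p ^ 3 ≤ Nat.card E) (hqp : q ≠ p)
    (hθC : ∀ e ∈ E, e ≠ 1 → θ e ≤ centralizer ({e} : Set G))
    (hθp : ∀ e ∈ E, e ≠ 1 → ¬ p ∣ Nat.card (θ e))
    (hθB : ∀ e ∈ E, e ≠ 1 → B ≤ normalizer (θ e : Set G))
    (hbal : ∀ a ∈ E, a ≠ 1 → ∀ b ∈ E, b ≠ 1 → θ a ⊓ centralizer ({b} : Set G) ≤ θ b)
    {Q₁ Q₂ : Subgroup G} (h₁ : Maximal (fun W => W ∈ Fam q B E θ) Q₁) (h₂ : Maximal (fun W => W ∈ Fam q B E θ) Q₂) :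
    ∃ c : G, (∀ e ∈ E, e ≠ 1 → c ∈ θ e) ∧ c ∈ centralizer (B : Set G) ∧ Q₂ = Q₁.map (MulAut.conj c).toMonoidHom := by
  haveI := hBa
  have hEa : IsMulCommutative E := ⟨⟨fun a b => Subtype.ext (by
    show (a : G) * b = b * a
    exact congrArg Subtype.val (hBa.is_comm.comm ⟨a, hEB a.2⟩ ⟨b, hEB b.2⟩))⟩⟩
  have hBsol : ∀ P : Subgroup G, P ≤ B → Group.IsSolvable P := fun P hP => by
    haveI := (hBp.to_le hP).isNilpotent
    infer_instance
  have hBcop : ∀ {R : Subgroup G}, (Nat.card R).Coprime p → ∀ P : Subgroup G, P ≤ B →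
      (Nat.card P).Coprime (Nat.card R) := fun {R} hR P hP => by
    obtain ⟨n, hn⟩ := IsPGroup.iff_card.1 (hBp.to_le hP)
    rw [hn]; exact hR.symm.pow_left n
  have hqcop : ∀ {R : Subgroup G}, IsPGroup q R → (Nat.card R).Coprime p := fun {R} hR => by
    obtain ⟨n, hn⟩ := IsPGroup.iff_card.1 hR
    rw [hn]; exact ((Nat.coprime_primes hq.out hp.out).2 hqp).pow_left n
  have hBc : ∀ x ∈ B, B ≤ centralizer ({x} : Set G) := fun x hx y hy => mem_centralizer_singleton_iff.2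
    (congrArg Subtype.val (hBa.is_comm.comm ⟨y, hy⟩ ⟨x, hx⟩))
  -- conjugation by the group `Z` preserves the family
  have hconj : ∀ (c : G), (∀ e ∈ E, e ≠ 1 → c ∈ θ e) → c ∈ centralizer (B : Set G) → ∀ R ∈ Fam q B E θ,
      R.map (MulAut.conj c).toMonoidHom ∈ Fam q B E θ := by
    rintro c hcθ hcB R ⟨hR, hBR, hRθ⟩
    refine ⟨hR.map _, fun b hb => ?_, fun e he he1 => ?_⟩
    · rw [mem_normalizer_iff_map_conj_eq, map_map]
      have h1 := mem_centralizer_iff.1 hcB b hb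
      calc R.map ((MulAut.conj b).toMonoidHom.comp (MulAut.conj c).toMonoidHom)
          = R.map ((MulAut.conj c).toMonoidHom.comp (MulAut.conj b).toMonoidHom) := by
            congr 1; ext x; simp only [MonoidHom.comp_apply, MulEquiv.coe_toMonoidHom, MulAut.conj_apply]
            calc b * (c * x * c⁻¹) * b⁻¹ = (b * c) * x * (b * c)⁻¹ := by group
              _ = c * (b * x * b⁻¹) * c⁻¹ := by rw [h1]; group
        _ = (R.map (MulAut.conj b).toMonoidHom).map (MulAut.conj c).toMonoidHom := (map_map _ _ _).symm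
        _ = _ := by rw [Cfsg.Lib.Coprime.map_conj_eq_self (hBR hb)]
    · rintro _ ⟨⟨r, hr, rfl⟩, hre⟩
      have hce : c * e = e * c := mem_centralizer_singleton_iff.1 (hθC e he he1 (hcθ e he he1))
      have hre' : r ∈ centralizer ({e} : Set G) := by
        have hre2 : c * r * c⁻¹ * e = e * (c * r * c⁻¹) := mem_centralizer_singleton_iff.1 hre
        rw [mem_centralizer_singleton_iff]
        refine mul_left_cancel (a := c) (mul_right_cancel (b := c⁻¹) ?_)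
        calc c * (r * e) * c⁻¹ = c * r * c⁻¹ * (c * e * c⁻¹) := by group
          _ = e * (c * r * c⁻¹) := by rw [hce, mul_inv_cancel_right, hre2]
          _ = (c * e * c⁻¹) * (c * r * c⁻¹) := by rw [hce, mul_inv_cancel_right]
          _ = c * (e * r) * c⁻¹ := by group
      exact mul_mem (mul_mem (hcθ e he he1) (hRθ e he he1 ⟨hr, hre'⟩)) (inv_mem (hcθ e he he1))
  have hmaxconj : ∀ (c : G), (∀ e ∈ E, e ≠ 1 → c ∈ θ e) → c ∈ centralizer (B : Set G) → ∀ R,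
      Maximal (fun W => W ∈ Fam q B E θ) R → Maximal (fun W => W ∈ Fam q B E θ) (R.map (MulAut.conj c).toMonoidHom) := by
    intro c hcθ hcB R hR
    refine ⟨hconj c hcθ hcB R hR.1, fun W hW hle => ?_⟩
    have hW' := hconj c⁻¹ (fun e he he1 => inv_mem (hcθ e he he1)) (inv_mem hcB) W hW
    have hle' : R ≤ W.map (MulAut.conj c⁻¹).toMonoidHom := fun r hr =>
      ⟨c * r * c⁻¹, hle (mem_map_of_mem _ hr), by simp [mul_assoc]⟩
    intro w hw
    exact ⟨c⁻¹ * w * c, hR.2 hW' hle' ⟨w, hw, by simp⟩, by simp [mul_assoc]⟩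
  -- descending induction on the intersection
  suffices H : ∀ m (Q₁ Q₂ : Subgroup G), Maximal (fun W => W ∈ Fam q B E θ) Q₁ → Maximal (fun W => W ∈ Fam q B E θ) Q₂ →
      Nat.card G - Nat.card ↥(Q₁ ⊓ Q₂) = m →
      ∃ c : G, (∀ e ∈ E, e ≠ 1 → c ∈ θ e) ∧ c ∈ centralizer (B : Set G) ∧ Q₂ = Q₁.map (MulAut.conj c).toMonoidHom from
    H _ Q₁ Q₂ h₁ h₂ rfl
  intro m
  induction m using Nat.strong_induction_on with
  | _ m ih =>
  intro Q₁ Q₂ h₁ h₂ hm
  set D := Q₁ ⊓ Q₂ with hD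
  by_cases heq : Q₁ = Q₂
  · subst heq
    exact ⟨1, fun e he he1 => one_mem _, one_mem _, by ext; simp⟩
  have hDlt : ∀ Q, Maximal (fun W => W ∈ Fam q B E θ) Q → (Q = Q₁ ∨ Q = Q₂) → D < Q := by
    rintro Q hQ (rfl | rfl)
    · refine lt_of_le_of_ne inf_le_left fun e => heq (le_antisymm (inf_eq_left.1 e) ?_)
      exact h₁.2 h₂.1 (inf_eq_left.1 e)
    · refine lt_of_le_of_ne inf_le_right fun e => heq (le_antisymm ?_ (inf_eq_right.1 e))
      exact h₂.2 h₁.1 (inf_eq_right.1 e)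
  have hBD : B ≤ normalizer (D : Set G) :=
    (le_inf h₁.1.2.1 h₂.1.2.1).trans inf_normalizer_le_normalizer_inf
  have hDq : IsPGroup q D := h₁.1.1.to_le inf_le_left
  -- a cocyclic subgroup whose centralizer in `N_Q(D)` is not in `D`
  have hstep : ∀ Q, Maximal (fun W => W ∈ Fam q B E θ) Q → (Q = Q₁ ∨ Q = Q₂) →
      ∃ B' ∈ Cfsg.Lib.Coprime.cocyclic E, ∃ x ∈ Q, x ∈ normalizer (D : Set G) ∧
        x ∈ centralizer (B' : Set G) ∧ x ∉ D := by
    intro Q hQ hor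
    have hlt := hDlt Q hQ hor
    set N := Q ⊓ normalizer (D : Set G) with hN
    have hDN : D < N := by
      refine lt_of_le_of_ne (le_inf hlt.le le_normalizer) fun e => ?_
      have : Group.IsNilpotent Q := hQ.1.1.isNilpotent
      have hne : D.subgroupOf Q < ⊤ := lt_top_iff_ne_top.2 fun h => hlt.not_ge (subgroupOf_eq_top.1 h)
      obtain ⟨w, hwn, hw⟩ := Set.exists_of_ssubset (Group.normalizerCondition_of_isNilpotent _ hne)
      refine hw ?_
      show (w : G) ∈ D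
      rw [e]
      refine ⟨w.2, ?_⟩
      have h1 := mem_map_of_mem Q.subtype hwn
      have h2 := le_normalizer_map Q.subtype h1
      rwa [map_subgroupOf_eq_of_le hlt.le] at h2
    have hEN : E ≤ normalizer (N : Set G) :=
      (le_inf (hEB.trans hQ.1.2.1) ((hEB.trans hBD).trans le_normalizer)).trans inf_normalizer_le_normalizer_inf
    by_contra hnone
    push Not at hnone
    refine hDN.not_ge ((Cfsg.Lib.Coprime.le_iSup_centralizer_cocyclic (A := E) N hEN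
      (hBcop (hqcop (hQ.1.1.to_le inf_le_left)) E hEB)).trans (iSup₂_le fun B' hB' x hx => ?_))
    exact hnone B' hB' x hx.1.1 hx.1.2 hx.2
  obtain ⟨B₁, hB₁, x₁, hx₁Q, hx₁n, hx₁c, hx₁D⟩ := hstep Q₁ h₁ (Or.inl rfl)
  obtain ⟨B₂, hB₂, x₂, hx₂Q, hx₂n, hx₂c, hx₂D⟩ := hstep Q₂ h₂ (Or.inr rfl)
  obtain ⟨a, haE, ha1, haB₁, haB₂⟩ := exists_common hEa hEe hE3 hB₁ hB₂
  -- the group `L = D (θ a ∩ N(D))`
  set T := θ a ⊓ normalizer (D : Set G) with hT
  set L := D ⊔ T with hL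
  have hBT : B ≤ normalizer (T : Set G) :=
    (le_inf (hθB a haE ha1) (hBD.trans le_normalizer)).trans inf_normalizer_le_normalizer_inf
  have hBL : B ≤ normalizer (L : Set G) :=
    (le_inf hBD hBT).trans fun x hx => by
      rw [mem_normalizer_iff_map_conj_eq, hL, Subgroup.map_sup]
      exact congrArg₂ (· ⊔ ·) (Cfsg.Lib.Coprime.map_conj_eq_self (mem_inf.1 hx).1)
        (Cfsg.Lib.Coprime.map_conj_eq_self (mem_inf.1 hx).2)
  have hTD : T ≤ normalizer (D : Set G) := inf_le_right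
  have hTcop : (Nat.card T).Coprime p := Nat.Coprime.coprime_dvd_left (card_dvd_of_le inf_le_left)
    (hp.out.coprime_iff_not_dvd.2 (hθp a haE ha1)).symm
  have hLcop : (Nat.card L).Coprime p := by
    have h1 : D.relIndex (D ⊔ T) = D.relIndex T := by
      rw [relIndex_sup_normalized hTD]
    rw [hL, ← Cfsg.Lib.Core.card_mul_relIndex (le_sup_left : D ≤ D ⊔ T), h1]
    exact Nat.Coprime.mul_left (hqcop hDq) (hTcop.coprime_dvd_left (relIndex_dvd_card _ _))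
  have hLfix : ∀ P ≤ B, ∀ l ∈ L, l ∈ centralizer (P : Set G) →
      ∃ d' ∈ D ⊓ centralizer (P : Set G), ∃ t' ∈ T ⊓ centralizer (P : Set G), l = d' * t' := by
    intro P hP l hl hlc
    obtain ⟨d, hd, t, ht, rfl⟩ := Cfsg.Lib.Coprime.exists_mul_of_mem_sup hTD hl
    exact mul_fixed (hP.trans hBT) (hP.trans hBD) (hBsol P hP) (hBcop hTcop P hP) hTD hd ht hlc
  have hLθ : ∀ e ∈ E, e ≠ 1 → L ⊓ centralizer ({e} : Set G) ≤ θ e := by
    intro e he he1 l hl
    have hz : l ∈ centralizer ((zpowers e : Subgroup G) : Set G) := by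
      rw [zpowers_eq_closure, centralizer_closure]; exact hl.2
    obtain ⟨d, hd, t, ht, rfl⟩ := hLfix (zpowers e) (zpowers_le.2 (hEB he)) l hl.1 hz
    have hdd : ∀ w, w ∈ centralizer ((zpowers e : Subgroup G) : Set G) → w ∈ centralizer ({e} : Set G) := fun w hw =>
      mem_centralizer_singleton_iff.2 (mem_centralizer_iff.1 hw e (mem_zpowers e)).symm
    exact mul_mem (h₁.1.2.2 e he he1 ⟨(hd.1 : d ∈ D).1, hdd d hd.2⟩)
      (hbal a haE ha1 e he he1 ⟨ht.1.1, hdd t ht.2⟩)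
  have hLB : ∀ l ∈ L, l ∈ centralizer (B : Set G) → ∀ e ∈ E, e ≠ 1 → l ∈ θ e := fun l hl hlB e he he1 =>
    hLθ e he he1 ⟨hl, mem_centralizer_singleton_iff.2 (mem_centralizer_iff.1 hlB e (hEB he)).symm⟩
  -- the two subgroups of `L`
  have hU : ∀ Q B', Maximal (fun W => W ∈ Fam q B E θ) Q → (Q = Q₁ ∨ Q = Q₂) → a ∈ B' → ∀ x ∈ Q,
      x ∈ normalizer (D : Set G) → x ∈ centralizer (B' : Set G) → x ∉ D →
      ∃ U : Subgroup G, U ≤ Q ∧ U ≤ L ∧ D < U ∧ B ≤ normalizer (U : Set G) := by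
    intro Q B' hQ hor haB' x hxQ hxn hxc hxD
    refine ⟨D ⊔ (Q ⊓ normalizer (D : Set G) ⊓ centralizer ({a} : Set G)), sup_le (hDlt Q hQ hor).le
      (inf_le_left.trans inf_le_left), sup_le le_sup_left ?_, ?_, fun b hb => ?_⟩
    · exact (fun w hw => mem_sup_right ⟨hQ.1.2.2 a haE ha1 ⟨hw.1.1, hw.2⟩, hw.1.2⟩)
    · refine lt_of_le_of_ne le_sup_left fun e => hxD ?_
      rw [e]
      exact mem_sup_right ⟨⟨hxQ, hxn⟩, mem_centralizer_singleton_iff.2 (mem_centralizer_iff.1 hxc a haB').symm⟩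
    · have h3 : B ≤ normalizer ((Q ⊓ normalizer (D : Set G) ⊓ centralizer ({a} : Set G) : Subgroup G) : Set G) :=
        (le_inf ((le_inf hQ.1.2.1 (hBD.trans le_normalizer)).trans inf_normalizer_le_normalizer_inf)
          ((hBc a (hEB haE)).trans le_normalizer)).trans inf_normalizer_le_normalizer_inf
      rw [mem_normalizer_iff_map_conj_eq, Subgroup.map_sup]
      exact congrArg₂ (· ⊔ ·) (Cfsg.Lib.Coprime.map_conj_eq_self (hBD hb))
        (Cfsg.Lib.Coprime.map_conj_eq_self (h3 hb))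
  obtain ⟨U₁, hU₁Q, hU₁L, hDU₁, hBU₁⟩ := hU Q₁ B₁ h₁ (Or.inl rfl) haB₁ x₁ hx₁Q hx₁n hx₁c hx₁D
  obtain ⟨U₂, hU₂Q, hU₂L, hDU₂, hBU₂⟩ := hU Q₂ B₂ h₂ (Or.inr rfl) haB₂ x₂ hx₂Q hx₂n hx₂c hx₂D
  obtain ⟨R₁, hUR₁, hBR₁⟩ := Cfsg.Lib.Coprime.exists_invariant_sylow_ge hBL (hBcop hLcop B le_rfl)
    (Or.inl (hBsol B le_rfl)) (p := q) hU₁L (h₁.1.1.to_le hU₁Q) hBU₁
  obtain ⟨R₂, hUR₂, hBR₂⟩ := Cfsg.Lib.Coprime.exists_invariant_sylow_ge hBL (hBcop hLcop B le_rfl)
    (Or.inl (hBsol B le_rfl)) (p := q) hU₂L (h₂.1.1.to_le hU₂Q) hBU₂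
  obtain ⟨c, hc, hcR⟩ := Cfsg.Lib.Coprime.exists_centralizer_conj_sylow hBL (hBcop hLcop B le_rfl)
    (Or.inl (hBsol B le_rfl)) R₁ R₂ hBR₁ hBR₂
  have hcθ : ∀ e ∈ E, e ≠ 1 → c ∈ θ e := hLB c hc.1 hc.2
  obtain ⟨Q₃, hRQ₃, hQ₃⟩ := exists_max (R := (R₁ : Subgroup L).map L.subtype) (q := q) (B := B) (E := E) (θ := θ)
    ⟨R₁.2.map _, hBR₁, fun e he he1 => (inf_le_inf_right _ (map_subtype_le _)).trans (hLθ e he he1)⟩
  set Q₄ := Q₃.map (MulAut.conj c).toMonoidHom with hQ₄def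
  have hQ₄ : Maximal (fun W => W ∈ Fam q B E θ) Q₄ := hmaxconj c hcθ hc.2 Q₃ hQ₃
  have hbig : ∀ Q Q' U : Subgroup G, U ≤ Q → U ≤ Q' → D < U → Nat.card G - Nat.card ↥(Q ⊓ Q') < m := by
    intro Q Q' U h1 h2 h3
    have h4 : Nat.card D < Nat.card ↥(Q ⊓ Q') := lt_of_lt_of_le
      (Nat.lt_of_le_of_ne (card_le_of_le h3.le) fun e => h3.ne (eq_of_le_of_card_ge h3.le e.ge))
      (card_le_of_le (le_inf h1 h2))
    have := card_le_card_group (Q ⊓ Q')
    omega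
  obtain ⟨c₁, hc₁θ, hc₁B, hQ₁₃⟩ := ih _ (hbig Q₁ Q₃ U₁ hU₁Q (hUR₁.trans hRQ₃) hDU₁) Q₁ Q₃ h₁ hQ₃ rfl
  obtain ⟨c₂, hc₂θ, hc₂B, hQ₄₂⟩ := ih _ (hbig Q₄ Q₂ U₂ (hUR₂.trans (hcR.le.trans (map_mono hRQ₃))) hU₂Q hDU₂)
    Q₄ Q₂ hQ₄ h₂ rfl
  refine ⟨c₂ * c * c₁, fun e he he1 => mul_mem (mul_mem (hc₂θ e he he1) (hcθ e he he1)) (hc₁θ e he he1),
    mul_mem (mul_mem hc₂B hc.2) hc₁B, ?_⟩
  rw [hQ₄₂, hQ₄def, hQ₁₃, map_map, map_map]
  congr 1
  ext w; simp [mul_assoc]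

end Cfsg.Lib.Transit
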