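import Cfsg.Agent.Lib.PGroup.ClassTwo
import Cfsg.Agent.Lib.PGroup.Basic
import Cfsg.Agent.Lib.Core.Basic
import Cfsg.Agent.Lib.Coprime.Action
import Mathlib.Data.Nat.Choose.Dvd

/-!
# Fixed points of a p-element on a p-group acted on by a p'-group, `p` odd

If a `p'`-group `R`, normalized by the `p`-element `b`, acts on the `p`-group `V` and centralizes the
fixed points of `b`, then it centralizes `V`. The class two step uses the Baer sum.
-/

set_option autoImplicit false
set_option linter.unusedSectionVars false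

namespace Cfsg.Lib.Transit

open Subgroup
open scoped commutatorElement

universe u

/-- A group of odd exponent and class two, seen with the Baer sum. -/
structure BaerSum (V : Type u) : Type u where
  /-- The underlying element. -/
  val : V

theorem BaerSum.ext' {V : Type u} {a b : BaerSum V} (h : a.val = b.val) : a = b := by
  cases a; cases b; simp_all

instance {V : Type u} [Finite V] : Finite (BaerSum V) :=
  Finite.of_injective BaerSum.val fun _ _ => BaerSum.ext'

section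

variable {V : Type u} [Group V] {p : ℕ}

/-- The Baer sum is a commutative group law. -/
@[reducible]
def baerCommGroup (hG : commutator V ≤ center V) (hexp : ∀ x : V, x ^ p = 1) (k : ℕ) (hk : 2 * k = p + 1) :
    CommGroup (BaerSum V) :=
  have hz : ∀ a b g : V, Commute g (⁅a, b⁆ ^ k) := fun a b g =>
    (show Commute g ⁅a, b⁆ from Cfsg.Lib.PGroup.commutatorElement_comm_of_central hG a b g).pow_right k
  have hcz : ∀ a b g : V, ⁅g, ⁅a, b⁆ ^ k⁆ = 1 ∧ ⁅⁅a, b⁆ ^ k, g⁆ = 1 := fun a b g =>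
    ⟨commutatorElement_eq_one_iff_mul_comm.2 (hz a b g).eq,
      commutatorElement_eq_one_iff_mul_comm.2 (hz a b g).eq.symm⟩
  { mul := fun a b => ⟨a.val * b.val * ⁅b.val, a.val⁆ ^ k⟩
    one := ⟨1⟩
    inv := fun a => ⟨a.val⁻¹⟩
    mul_assoc := fun a b c => by
      obtain ⟨x⟩ := a; obtain ⟨y⟩ := b; obtain ⟨z⟩ := c
      refine BaerSum.ext' ?_
      show x * y * ⁅y, x⁆ ^ k * z * ⁅z, x * y * ⁅y, x⁆ ^ k⁆ ^ k =
        x * (y * z * ⁅z, y⁆ ^ k) * ⁅y * z * ⁅z, y⁆ ^ k, x⁆ ^ k
      simp only [Cfsg.Lib.PGroup.commutatorElement_mul_left hG, Cfsg.Lib.PGroup.commutatorElement_mul_right hG,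
        (hcz y x z).1, (hcz z y x).2, mul_one]
      have c1 : Commute ⁅z, x⁆ ⁅z, y⁆ := Cfsg.Lib.PGroup.commutatorElement_comm_of_central hG z y _
      have c2 : Commute ⁅y, x⁆ ⁅z, x⁆ := Cfsg.Lib.PGroup.commutatorElement_comm_of_central hG z x _
      rw [c1.mul_pow, c2.mul_pow]
      calc x * y * ⁅y, x⁆ ^ k * z * (⁅z, x⁆ ^ k * ⁅z, y⁆ ^ k)
          = x * y * (⁅y, x⁆ ^ k * z) * (⁅z, x⁆ ^ k * ⁅z, y⁆ ^ k) := by simp only [mul_assoc]
        _ = x * y * (z * ⁅y, x⁆ ^ k) * (⁅z, x⁆ ^ k * ⁅z, y⁆ ^ k) := by rw [(hz y x z).eq]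
        _ = x * y * z * ((⁅y, x⁆ ^ k * ⁅z, x⁆ ^ k) * ⁅z, y⁆ ^ k) := by simp only [mul_assoc]
        _ = x * y * z * (⁅z, y⁆ ^ k * (⁅y, x⁆ ^ k * ⁅z, x⁆ ^ k)) := by rw [(hz z y _).eq]
        _ = x * (y * z * ⁅z, y⁆ ^ k) * (⁅y, x⁆ ^ k * ⁅z, x⁆ ^ k) := by simp only [mul_assoc]
    one_mul := fun a => BaerSum.ext' (show (1 : V) * a.val * ⁅a.val, (1 : V)⁆ ^ k = a.val by simp)
    mul_one := fun a => BaerSum.ext' (show a.val * (1 : V) * ⁅(1 : V), a.val⁆ ^ k = a.val by simp)
    inv_mul_cancel := fun a => BaerSum.ext' (show a.val⁻¹ * a.val * ⁅a.val, a.val⁻¹⁆ ^ k = 1 by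
      rw [commutatorElement_eq_one_iff_mul_comm.2 (by rw [mul_inv_cancel, inv_mul_cancel]), one_pow, inv_mul_cancel,
        one_mul])
    mul_comm := fun a b => by
      obtain ⟨x⟩ := a; obtain ⟨y⟩ := b
      refine BaerSum.ext' ?_
      show x * y * ⁅y, x⁆ ^ k = y * x * ⁅x, y⁆ ^ k
      rw [← commutatorElement_inv y x, inv_pow]
      have h1 : y * x = ⁅y, x⁆ * (x * y) := by simp [commutatorElement_def, mul_assoc]
      have h2 : ⁅y, x⁆ ^ k * ⁅y, x⁆ ^ k = ⁅y, x⁆ := by
        rw [← pow_add, ← two_mul, hk, pow_succ, hexp, one_mul]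
      rw [h1, ← (show Commute (x * y) ⁅y, x⁆ from Cfsg.Lib.PGroup.commutatorElement_comm_of_central hG y x _).eq,
        eq_mul_inv_iff_mul_eq, mul_assoc, h2] }

end

variable {X : Type u} [Group X] [Finite X] {p : ℕ} [hp : Fact p.Prime]

/-- The class two step. -/
theorem centralizes_of_class_two (hp2 : p ≠ 2) {V R : Subgroup X} {b : X} (hRp : (Nat.card R).Coprime p)
    (hRV : R ≤ normalizer (V : Set X)) (hbV : b ∈ normalizer (V : Set X)) (hbR : b ∈ normalizer (R : Set X))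
    (hG : commutator V ≤ center V) (hexp : ∀ x : V, x ^ p = 1)
    (hD : ∀ x y : V, (⁅x, y⁆ : V).1 ∈ centralizer (R : Set X))
    (hfix : ∀ v ∈ V, b * v = v * b → v ∈ centralizer (R : Set X))
    {x : V} {s : X} (hsV : s ∈ V) (hsR : s ∈ centralizer (R : Set X)) (hxs : b * (x : X) * b⁻¹ = (x : X) * s) :
    (x : X) ∈ centralizer (R : Set X) := by
  classical
  obtain ⟨k, hk⟩ : ∃ k, 2 * k = p + 1 := by
    obtain ⟨q, hq⟩ := hp.out.odd_of_ne_two hp2
    exact ⟨q + 1, by omega⟩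
  letI := baerCommGroup hG hexp k hk
  haveI : Fintype R := Fintype.ofFinite R
  -- conjugations are automorphisms of the Baer sum
  let conjB : ↥(normalizer (V : Set X)) → BaerSum V →* BaerSum V := fun g =>
    MonoidHom.mk' (fun w => ⟨⟨(g : X) * w.val * (g : X)⁻¹, (mem_normalizer_iff.1 g.2 _).1 w.val.2⟩⟩) fun u w => by
      refine BaerSum.ext' ?_
      let φ : V →* V := MonoidHom.mk' (fun v : V => (⟨(g : X) * v * (g : X)⁻¹, (mem_normalizer_iff.1 g.2 _).1 v.2⟩ : V))
        fun v₁ v₂ => Subtype.ext (by simp [mul_assoc])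
      show φ (u.val * w.val * ⁅w.val, u.val⁆ ^ k) = φ u.val * φ w.val * ⁅φ w.val, φ u.val⁆ ^ k
      rw [map_mul, map_mul, map_pow, map_commutatorElement]
  have hconjmul : ∀ (g h : ↥(normalizer (V : Set X))) (w : BaerSum V), conjB g (conjB h w) = conjB (g * h) w :=
    fun g h w => BaerSum.ext' (Subtype.ext (by simp [conjB, mul_assoc]))
  let ι : R → ↥(normalizer (V : Set X)) := fun r => ⟨r, hRV r.2⟩
  let act : R → BaerSum V →* BaerSum V := fun r => conjB (ι r)
  let bb : ↥(normalizer (V : Set X)) := ⟨b, hbV⟩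
  have hmem : ∀ w : BaerSum V, ((w.val : X) ∈ centralizer (R : Set X)) ↔ ∀ r, act r w = w := by
    intro w
    rw [mem_centralizer_iff]
    constructor
    · intro h r
      refine BaerSum.ext' (Subtype.ext ?_)
      show (r : X) * w.val * (r : X)⁻¹ = w.val
      rw [h r r.2, mul_inv_cancel_right]
    · intro h r hr
      have := congrArg (fun u : BaerSum V => (u.val : X)) (h ⟨r, hr⟩)
      exact mul_inv_eq_iff_eq_mul.1 this
  have hpow : ∀ (w : BaerSum V) (n : ℕ), (w ^ n).val = w.val ^ n := by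
    intro w n
    induction n with
    | zero => rw [pow_zero, pow_zero]; rfl
    | succ n ih =>
      rw [pow_succ]
      show (w ^ n).val * w.val * ⁅w.val, (w ^ n).val⁆ ^ k = _
      rw [ih, commutatorElement_eq_one_iff_mul_comm.2 ((Commute.refl w.val).pow_right n).eq, one_pow, mul_one, pow_succ]
  have hwp : ∀ w : BaerSum V, w ^ p = 1 := fun w => BaerSum.ext' (by rw [hpow, hexp]; rfl)
  obtain ⟨m, hm⟩ : ∃ m, ∀ w : BaerSum V, w ^ (Nat.card R * m) = w := by
    obtain ⟨m, -, hm⟩ := Nat.exists_mul_mod_eq_one_of_coprime hRp hp.out.one_lt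
    refine ⟨m, fun w => ?_⟩
    rw [← Nat.mod_add_div (Nat.card R * m) p, hm, pow_add, pow_one, pow_mul, hwp, one_pow, mul_one]
  let π : BaerSum V →* BaerSum V := (powMonoidHom m).comp (∏ r : R, act r)
  have hπ : ∀ w, π w = (∏ r : R, act r w) ^ m := fun w => by simp [π, MonoidHom.finsetProd_apply, Finset.prod_pow]
  have hπfix : ∀ w, (∀ r, act r w = w) → π w = w := fun w h => by
    rw [hπ, Finset.prod_congr rfl fun r _ => h r, Finset.prod_const, Finset.card_univ, ← Nat.card_eq_fintype_card,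
      ← pow_mul, hm]
  have hπC : ∀ w r, act r (π w) = π w := by
    intro w r
    rw [hπ, map_pow, map_prod]
    congr 1
    refine Fintype.prod_equiv (Equiv.mulLeft r) _ _ fun q => ?_
    show conjB (ι r) (conjB (ι q) w) = conjB (ι (r * q)) w
    rw [hconjmul]; rfl
  have hπb : ∀ w, π (conjB bb w) = conjB bb (π w) := by
    intro w
    rw [hπ, hπ, map_pow, map_prod]
    congr 1
    let e : R ≃ R :=
      { toFun := fun r => ⟨b⁻¹ * r * b, by simpa using (mem_normalizer_iff.1 (inv_mem hbR) _).1 r.2⟩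
        invFun := fun r => ⟨b * r * b⁻¹, (mem_normalizer_iff.1 hbR _).1 r.2⟩
        left_inv := fun r => Subtype.ext (by simp [mul_assoc])
        right_inv := fun r => Subtype.ext (by simp [mul_assoc]) }
    refine Fintype.prod_equiv e _ _ fun r => ?_
    show conjB (ι r) (conjB bb w) = conjB bb (conjB (ι _) w)
    rw [hconjmul, hconjmul]
    refine congrArg (fun g => conjB g w) (Subtype.ext ?_)
    simp [ι, bb, e, mul_assoc]
  -- the correction to the Baer coset
  set xb : BaerSum V := ⟨x⟩ with hxb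
  obtain ⟨t, ht, hbt⟩ : ∃ t : BaerSum V, (∀ r, act r t = t) ∧ conjB bb xb = xb * t := by
    refine ⟨⟨⟨s, hsV⟩ * (⁅(⟨s, hsV⟩ : V), x⁆ ^ k)⁻¹⟩, (hmem _).1 ?_, BaerSum.ext' (Subtype.ext ?_)⟩
    · show s * (((⁅(⟨s, hsV⟩ : V), x⁆ ^ k : V) : X))⁻¹ ∈ centralizer (R : Set X)
      rw [Subgroup.coe_pow]
      exact mul_mem hsR (inv_mem (pow_mem (hD _ _) k))
    · have hz : ⁅(⟨s, hsV⟩ : V), x⁆ ^ k ∈ center V :=
        pow_mem (hG (commutator_mem_commutator (mem_top _) (mem_top _))) k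
      show b * (x : X) * b⁻¹ = ((x * ((⟨s, hsV⟩ : V) * (⁅(⟨s, hsV⟩ : V), x⁆ ^ k)⁻¹) *
        ⁅(⟨s, hsV⟩ : V) * (⁅(⟨s, hsV⟩ : V), x⁆ ^ k)⁻¹, x⁆ ^ k : V) : X)
      have h0 : ⁅(⁅(⟨s, hsV⟩ : V), x⁆ ^ k)⁻¹, x⁆ = 1 :=
        commutatorElement_eq_one_iff_mul_comm.2 (mem_center_iff.1 (inv_mem hz) x).symm
      rw [Cfsg.Lib.PGroup.commutatorElement_mul_left hG, h0, mul_one, hxs]
      simp only [mul_assoc, inv_mul_cancel, mul_one, Subgroup.coe_mul]
  set y := xb / π xb with hy
  have hby : conjB bb y = y := by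
    rw [hy, map_div, ← hπb, hbt, map_mul, hπfix t ht, mul_div_mul_right_eq_div]
  have hyC : (y.val : X) ∈ centralizer (R : Set X) :=
    hfix _ y.val.2 (mul_inv_eq_iff_eq_mul.1 (congrArg (fun u : BaerSum V => (u.val : X)) hby))
  refine (hmem xb).2 fun r => ?_
  have e : xb = y * π xb := (div_mul_cancel _ _).symm
  rw [e, map_mul, (hmem y).1 hyC r, hπC]

/-- A `p'`-group centralizing the fixed points of a `p`-element which normalizes it centralizes the whole `p`-group. -/
theorem centralizes_of_fixed (hp2 : p ≠ 2) : ∀ (V : Subgroup X), IsPGroup p V → ∀ (R : Subgroup X) (b : X),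
    (Nat.card R).Coprime p → IsPGroup p (zpowers b) → R ≤ normalizer (V : Set X) → b ∈ normalizer (V : Set X) →
    b ∈ normalizer (R : Set X) → (∀ v ∈ V, b * v = v * b → v ∈ centralizer (R : Set X)) →
    R ≤ centralizer (V : Set X) := by
  intro V
  induction V using WellFoundedLT.induction with
  | _ V ih =>
  intro hV R b hR hb hRV hbV hbR hfix
  by_cases hne : V = ⊥
  · intro r _
    rw [mem_centralizer_iff]
    intro x hx
    rw [hne, SetLike.mem_coe, mem_bot] at hx
    simp [hx]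
  have hV' : Group.IsSolvable V := by
    have := hV.isNilpotent
    infer_instance
  have hcop : (Nat.card R).Coprime (Nat.card V) := by
    obtain ⟨n, hn⟩ := IsPGroup.iff_card.1 hV
    rw [hn]; exact hR.pow_right n
  have hsub : ∀ W : Subgroup X, W < V → R ≤ normalizer (W : Set X) → b ∈ normalizer (W : Set X) →
      R ≤ centralizer (W : Set X) :=
    fun W hW h1 h2 => ih W hW (hV.to_le hW.le) R b hR hb h1 h2 hbR fun v hv => hfix v (hW.le hv)
  have hVR : ⁅V, R⁆ ≤ V := Cfsg.Lib.Coprime.commutator_le_of_le_normalizer hRV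
  by_cases htop : ⁅V, R⁆ = V
  swap
  · have hbn : b ∈ normalizer ((⁅V, R⁆ : Subgroup X) : Set X) := by
      rw [mem_normalizer_iff_map_conj_eq, map_commutator]
      exact congrArg₂ (⁅·, ·⁆) (Cfsg.Lib.Coprime.map_conj_eq_self hbV) (Cfsg.Lib.Coprime.map_conj_eq_self hbR)
    have hc := hsub _ (lt_of_le_of_ne hVR htop) (normalizer_commutator_ge_right V R) hbn
    have h1 : ⁅⁅V, R⁆, R⁆ = ⊥ := commutator_eq_bot_iff_le_centralizer.mpr (le_centralizer_iff.mp hc)
    rw [Cfsg.Lib.Coprime.commutator_commutator_eq hRV hcop (Or.inr hV')] at h1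
    exact le_centralizer_iff.mp (commutator_eq_bot_iff_le_centralizer.mp h1)
  set S := (frattini V).map V.subtype with hS
  have hSV : S < V := by
    refine lt_of_le_of_ne (map_subtype_le _) fun he => ?_
    have : Nontrivial V := (nontrivial_iff_ne_bot V).mpr hne
    refine Cfsg.Lib.PGroup.frattini_ne_top (map_injective V.subtype_injective ?_)
    rw [← hS, he, ← MonoidHom.range_eq_map, range_subtype]
  have hNS : normalizer (V : Set X) ≤ normalizer (S : Set X) :=
    Cfsg.Lib.Core.normalizer_le_normalizer_map_char (frattini V)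
  have hRS := hsub S hSV (hRV.trans hNS) (hNS hbV)
  have hSR : ⁅S, R⁆ = ⊥ := commutator_eq_bot_iff_le_centralizer.mpr (le_centralizer_iff.mp hRS)
  have hcentral : ⁅V, S⁆ = ⊥ := by
    have h1 : ⁅⁅R, S⁆, V⁆ = ⊥ := by rw [commutator_comm R S, hSR, commutator_bot_left]
    have h2 : ⁅⁅S, V⁆, R⁆ = ⊥ := le_bot_iff.mp <| hSR ▸
      commutator_mono (by
        rw [commutator_comm]
        exact (commutator_comm V S).le.trans (Cfsg.Lib.Coprime.commutator_le_of_le_normalizer
          (le_normalizer.trans hNS))) le_rfl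
    have h3 := commutator_commutator_eq_bot_of_rotate h1 h2
    rwa [htop] at h3
  have hzS : ∀ u ∈ S, ∀ x ∈ V, x * u = u * x := fun u hu x hx =>
    ((mem_centralizer_iff.mp (commutator_eq_bot_iff_le_centralizer.mp hcentral hx) u hu)).symm
  have hfrat : ∀ z ∈ frattini V, z ∈ center V := fun z hz => mem_center_iff.mpr fun x =>
    Subtype.ext (hzS z (mem_map_of_mem _ hz) x x.2)
  have hDfr : commutator V ≤ frattini V := Cfsg.Lib.PGroup.commutator_le_frattini hV
  have hG : commutator V ≤ center V := fun z hz => hfrat z (hDfr hz)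
  have hpow : ∀ x y : V, (x * y) ^ p = x ^ p * y ^ p := by
    intro x y
    have hc1 : ⁅y, x⁆ ^ p = 1 := by
      rw [← Cfsg.Lib.PGroup.commutatorElement_pow_right hG, commutatorElement_eq_one_iff_mul_comm]
      exact mem_center_iff.1 (hfrat _ (Cfsg.Lib.PGroup.pow_mem_frattini hV x)) y
    have h2 := Cfsg.Lib.PGroup.mul_pow_of_class_two hG x y p
    obtain ⟨k, hk⟩ : p ∣ p.choose 2 :=
      Nat.Prime.dvd_choose_self hp.out (by norm_num) (by have := hp.out.two_le; omega)
    rw [hk, pow_mul, hc1, one_pow, mul_one] at h2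
    exact h2
  have hexp : ∀ x : V, x ^ p = 1 := by
    have hker : ⁅V, R⁆ ≤ ((MonoidHom.mk' (fun x : V => x ^ p) hpow).ker).map V.subtype := by
      rw [commutator_le]
      intro x hx r hr
      have hrx : r * x⁻¹ * r⁻¹ ∈ V := (mem_normalizer_iff.mp (hRV hr) x⁻¹).mp (inv_mem hx)
      refine ⟨⟨x, hx⟩ * ⟨r * x⁻¹ * r⁻¹, hrx⟩, ?_, by simp [commutatorElement_def, mul_assoc]⟩
      show ((⟨x, hx⟩ : V) * ⟨r * x⁻¹ * r⁻¹, hrx⟩) ^ p = 1
      rw [hpow]
      refine Subtype.ext ?_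
      show x ^ p * (r * x⁻¹ * r⁻¹) ^ p = 1
      have hxp : x ^ p ∈ S := ⟨⟨x, hx⟩ ^ p, Cfsg.Lib.PGroup.pow_mem_frattini hV _, rfl⟩
      rw [conj_pow, inv_pow, show r * (x ^ p)⁻¹ = (x ^ p)⁻¹ * r from
        (mem_centralizer_iff.1 (hRS hr) _ (inv_mem hxp)).symm, mul_inv_cancel_right, mul_inv_cancel]
    intro x
    obtain ⟨w, hw, hwx⟩ := hker (htop.symm ▸ x.2 : (x : X) ∈ ⁅V, R⁆)
    rw [← Subtype.ext hwx]
    exact hw
  -- a fixed point of `b` modulo the centralizer of `R`
  set C := V ⊓ centralizer (R : Set X) with hC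
  by_contra hnot
  have hCne : C ≠ V := fun e => hnot (le_centralizer_iff.1 (e ▸ inf_le_right))
  have hSC : S ≤ C := le_inf hSV.le (le_centralizer_iff.1 hRS)
  set K := zpowers b ⊔ V with hK
  have hKp : IsPGroup p K := hb.to_sup_of_normal_right' hV (zpowers_le.2 hbV)
  have hKC : K ≤ normalizer (C : Set X) := by
    refine sup_le (zpowers_le.2 ?_) ?_
    · refine inf_normalizer_le_normalizer_inf ⟨hbV, ?_⟩
      show b ∈ normalizer ((centralizer (R : Set X) : Subgroup X) : Set X)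
      rw [mem_normalizer_iff_map_conj_eq]
      refine eq_of_le_of_card_ge ?_ (card_map_of_injective (MulAut.conj b).injective).ge
      rintro _ ⟨c, hc, rfl⟩
      refine mem_centralizer_iff.2 fun r hr => ?_
      show r * (b * c * b⁻¹) = b * c * b⁻¹ * r
      have := mem_centralizer_iff.1 hc (b⁻¹ * r * b) (by simpa using (mem_normalizer_iff.1 (inv_mem hbR) r).1 hr)
      calc r * (b * c * b⁻¹) = b * ((b⁻¹ * r * b) * c) * b⁻¹ := by group
        _ = b * (c * (b⁻¹ * r * b)) * b⁻¹ := by rw [this]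
        _ = b * c * b⁻¹ * r := by group
    · refine Subgroup.le_normalizer_iff.mpr fun v hv c hc => ?_
      have h1 : ((⁅(⟨v, hv⟩ : V), (⟨c, hc.1⟩ : V)⁆ : V) : X) ∈ S := mem_map_of_mem V.subtype (hDfr
        (commutator_mem_commutator (mem_top _) (mem_top _)))
      have : v * c * v⁻¹ = ((⁅(⟨v, hv⟩ : V), (⟨c, hc.1⟩ : V)⁆ : V) : X) * c := by simp [commutatorElement_def, mul_assoc]
      rw [this]
      exact mul_mem (hSC h1) hc
  haveI hCn : (C.subgroupOf K).Normal :=
    (normal_subgroupOf_iff_le_normalizer (inf_le_left.trans le_sup_right)).2 hKC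
  haveI hVn : (V.subgroupOf K).Normal :=
    (normal_subgroupOf_iff_le_normalizer le_sup_right).2 (sup_le (zpowers_le.2 hbV) le_normalizer)
  set f := QuotientGroup.mk' (C.subgroupOf K) with hf
  have hN : (V.subgroupOf K).map f ≠ ⊥ := by
    rw [ne_eq, Subgroup.map_eq_bot_iff, hf, QuotientGroup.ker_mk']
    intro h
    exact hCne (le_antisymm inf_le_left fun v hv => h (show (⟨v, mem_sup_right hv⟩ : K) ∈ V.subgroupOf K from hv))
  haveI : ((V.subgroupOf K).map f).Normal := hVn.map f (QuotientGroup.mk'_surjective _)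
  have hcent := Cfsg.Lib.PGroup.inf_center_ne_bot (hKp.to_quotient (C.subgroupOf K)) hN
  obtain ⟨z, ⟨hzV, hzc⟩, hz1⟩ := (bot_or_exists_ne_one _).resolve_left hcent
  obtain ⟨x, hxV, rfl⟩ := hzV
  refine hz1 ((QuotientGroup.eq_one_iff x).2 (mem_subgroupOf.2 (mem_inf.2 ⟨hxV, ?_⟩)))
  have h2 : x⁻¹ * (⟨b, mem_sup_left (mem_zpowers b)⟩ * x * (⟨b, mem_sup_left (mem_zpowers b)⟩ : K)⁻¹) ∈ C.subgroupOf K := by
    rw [← QuotientGroup.eq_one_iff]
    change f _ = 1
    rw [map_mul, map_mul, map_mul, map_inv, map_inv, mem_center_iff.1 hzc, mul_inv_cancel_right, inv_mul_cancel]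
  refine centralizes_of_class_two hp2 hR hRV hbV hbR hG hexp (fun u w => le_centralizer_iff.1 hRS ?_) hfix
    (x := ⟨(x : X), hxV⟩) (s := (x : X)⁻¹ * (b * x * b⁻¹)) h2.1 h2.2 (mul_inv_cancel_left _ _).symm
  exact mem_map_of_mem V.subtype (hDfr (commutator_mem_commutator (mem_top u) (mem_top w)))

end Cfsg.Lib.Transit
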