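import Cfsg.Agent.Lib.Transit.Baer
import Cfsg.Agent.Lib.Coprime.Generation
import Cfsg.Agent.Lib.Coprime.PGroupAction
import Cfsg.Agent.Lib.Sig.PConstrained

/-!
# p'-subgroups normalized by a self-centralizing abelian p-subgroup of a p-constrained group
-/

set_option autoImplicit false
set_option linter.unusedSectionVars false

namespace Cfsg.Lib.Transit

open Subgroup
open scoped commutatorElement

variable {X : Type*} [Group X] [Finite X] {p : ℕ} [hp : Fact p.Prime]

/-- The form for a group with trivial `p'`-core. -/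
theorem eq_bot_of_centralizes_fixed (hC : centralizer (Cfsg.pCore p X : Set X) ≤ Cfsg.pCore p X)
    {B R : Subgroup X} (hBp : IsPGroup p B) (hBa : IsMulCommutative B) (hR : (Nat.card R).Coprime p)
    (hBR : B ≤ normalizer (R : Set X))
    (hfix : Cfsg.pCore p X ⊓ centralizer (B : Set X) ≤ centralizer (R : Set X))
    (hcl : p ≠ 2 ∨ ∃ S : Sylow p X, B ≤ S ∧
      ∀ x ∈ (S : Subgroup X), ∀ y ∈ (S : Subgroup X), ∀ z ∈ (S : Subgroup X), ⁅x, y⁆ * z = z * ⁅x, y⁆) :
    R = ⊥ := by
  set U := Cfsg.pCore p X with hU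
  have hUp : IsPGroup p U := Cfsg.Lib.Core.pCore_isPGroup p X
  have hUn : ∀ H : Subgroup X, H ≤ normalizer (U : Set X) := fun H => by
    rw [normalizer_eq_top_iff.2 inferInstance]; exact le_top
  have hd : ∀ Q : Subgroup X, (Nat.card Q).Coprime p → Q ≤ centralizer (U : Set X) → Q = ⊥ := fun Q hQ h => by
    rw [← Cfsg.Lib.Sig.disjoint_of_isPGroup_coprime hUp hQ, inf_eq_right.2 (h.trans hC)]
  -- `A × B` applied to a subgroup of `R` centralized by `B₁ ≤ B`
  have hAB : ∀ (P Q : Subgroup X), P ≤ B → Q ≤ R → Q ≤ centralizer (P : Set X) →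
      U ⊓ centralizer (P : Set X) ≤ centralizer (Q : Set X) → Q = ⊥ := by
    intro P Q hP hQ hQP hfixQ
    have hQc : (Nat.card Q).Coprime p := hR.coprime_dvd_left (card_dvd_of_le hQ)
    have h := Cfsg.Lib.Coprime.commutator_eq_bot_of_AxB U P Q hUp (hBp.to_le hP) hQc (hUn P) (hUn Q) hQP hfixQ
    exact hd Q hQc (commutator_eq_bot_iff_le_centralizer.1 ((commutator_comm _ _).trans h))
  obtain ⟨n, hn⟩ := IsPGroup.iff_card.1 hBp
  have hcop : (Nat.card B).Coprime (Nat.card R) := by rw [hn]; exact (hR.symm).pow_left n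
  rcases hcl with hp2 | ⟨S, hBS, hS⟩
  · rw [eq_bot_iff]
    refine (Cfsg.Lib.Coprime.le_iSup_centralizer_cocyclic (A := B) R hBR hcop).trans (iSup₂_le fun B₁ hB₁ => ?_)
    obtain ⟨hB₁B, b, hb, hsup⟩ := hB₁
    set Q := R ⊓ centralizer (B₁ : Set X) with hQ
    set V := U ⊓ centralizer (B₁ : Set X) with hV
    have hBB₁ : B ≤ normalizer (B₁ : Set X) := by
      refine le_trans (fun x hx => mem_centralizer_iff.2 fun y hy => ?_) (centralizer_le_normalizer _)
      exact congrArg Subtype.val (hBa.is_comm.comm ⟨y, hB₁B hy⟩ ⟨x, hx⟩)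
    have hBQ : B ≤ normalizer (Q : Set X) := Cfsg.Lib.Coprime.le_normalizer_inf_centralizer hBR hBB₁
    have hQV : Q ≤ normalizer (V : Set X) := by
      refine (le_inf (hUn Q) ?_).trans inf_normalizer_le_normalizer_inf
      exact inf_le_right.trans le_normalizer
    have hbV : b ∈ normalizer (V : Set X) := Cfsg.Lib.Coprime.le_normalizer_inf_centralizer (hUn B) hBB₁ hb
    have hbp : IsPGroup p (zpowers b) := hBp.to_le (zpowers_le.2 hb)
    have hc := centralizes_of_fixed hp2 V (hUp.to_le inf_le_left) Q b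
      (hR.coprime_dvd_left (card_dvd_of_le inf_le_left)) hbp hQV hbV (hBQ hb) fun v hv hvb => by
        refine centralizer_le inf_le_left (hfix ⟨hv.1, ?_⟩)
        rw [SetLike.mem_coe, ← hsup]
        have : B₁ ⊔ zpowers b ≤ centralizer ({v} : Set X) := by
          refine sup_le (fun w hw => mem_centralizer_singleton_iff.2 ?_) (zpowers_le.2 (mem_centralizer_singleton_iff.2 hvb))
          exact mem_centralizer_iff.1 hv.2 w hw
        exact mem_centralizer_iff.2 fun w hw => mem_centralizer_singleton_iff.1 (this hw)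
    exact (hAB B₁ Q hB₁B inf_le_left inf_le_right (le_centralizer_iff.1 hc)).le
  · -- class two: `[U, B]` is central, so `[R, B]` stabilizes the chain
    have hUS : U ≤ (S : Subgroup X) := Cfsg.Lib.Core.pCore_le_sylow S
    set T := ⁅U, B⁆ with hT
    have hTU : T ≤ U := Cfsg.Lib.Coprime.commutator_le_of_le_normalizer (hUn B)
    have hTc : ∀ t ∈ T, ∀ z ∈ (S : Subgroup X), t * z = z * t := by
      intro t ht z hz
      have : T ≤ centralizer ({z} : Set X) := by
        rw [hT, commutator_le]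
        exact fun u hu b hb => mem_centralizer_singleton_iff.2 (hS u (hUS hu) b (hBS hb) z hz)
      exact mem_centralizer_singleton_iff.1 (this ht)
    have hTR : T ≤ centralizer (R : Set X) := fun t ht =>
      hfix ⟨hTU ht, mem_centralizer_iff.2 fun b hb => (hTc t ht b (hBS hb)).symm⟩
    set Q := ⁅R, B⁆ with hQ
    have hQR : Q ≤ R := Cfsg.Lib.Coprime.commutator_le_of_le_normalizer hBR
    have hUQ : ⁅U, Q⁆ ≤ T := by
      let K : Subgroup X :=
        { carrier := {g | g ∈ normalizer (T : Set X) ∧ ∀ u ∈ U, g * u * g⁻¹ * u⁻¹ ∈ T}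
          one_mem' := ⟨one_mem _, fun u _ => by simp⟩
          mul_mem' := fun {g h} hg hh => ⟨mul_mem hg.1 hh.1, fun u hu => by
            have : g * h * u * (g * h)⁻¹ * u⁻¹ = (g * (h * u * h⁻¹ * u⁻¹) * g⁻¹) * (g * u * g⁻¹ * u⁻¹) := by group
            rw [this]; exact mul_mem ((mem_normalizer_iff.1 hg.1 _).1 (hh.2 u hu)) (hg.2 u hu)⟩
          inv_mem' := fun {g} hg => ⟨inv_mem hg.1, fun u hu => by
            have hgu : g⁻¹ * u * g ∈ U := by simpa using Normal.conj_mem (inferInstance : U.Normal) u hu g⁻¹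
            have h2 := inv_mem (hg.2 _ hgu)
            rw [show (g * (g⁻¹ * u * g) * g⁻¹ * (g⁻¹ * u * g)⁻¹)⁻¹ = g⁻¹ * u * g * u⁻¹ by group] at h2
            rwa [inv_inv]⟩ }
      have hnT : ∀ g ∈ B ⊔ R, g ∈ normalizer (T : Set X) := fun g hg => by
        refine centralizer_le_normalizer _ ?_
        exact sup_le (fun b hb => mem_centralizer_iff.2 fun t ht => hTc t ht b (hBS hb)) (le_centralizer_iff.1 hTR) hg
      have hQK : Q ≤ K := by
        rw [hQ, commutator_le]
        intro r hr b hb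
        refine ⟨hnT _ (?_), fun u hu => ?_⟩
        · exact mul_mem (mul_mem (mul_mem (mem_sup_right hr) (mem_sup_left hb)) (inv_mem (mem_sup_right hr)))
            (inv_mem (mem_sup_left hb))
        · have hu1 : b⁻¹ * u * b ∈ U := by simpa using Normal.conj_mem (inferInstance : U.Normal) u hu b⁻¹
          have hu2 : r⁻¹ * (b⁻¹ * u * b) * r ∈ U := by simpa using Normal.conj_mem (inferInstance : U.Normal) _ hu1 r⁻¹
          -- conjugation by `b` is trivial modulo `T`
          have hbt : ∀ v ∈ U, b * v * b⁻¹ * v⁻¹ ∈ T := fun v hv => by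
            have := inv_mem (commutator_mem_commutator hv hb : ⁅v, b⁆ ∈ T)
            rwa [commutatorElement_inv, commutatorElement_def] at this
          have e : ⁅r, b⁆ * u * ⁅r, b⁆⁻¹ * u⁻¹ =
              (r * (b * (r⁻¹ * (b⁻¹ * u * b) * r) * b⁻¹ * (r⁻¹ * (b⁻¹ * u * b) * r)⁻¹) * r⁻¹) *
                (b⁻¹ * u * b * u⁻¹) := by simp [commutatorElement_def, mul_assoc]
          rw [e]
          refine mul_mem ((mem_normalizer_iff.1 (hnT r (mem_sup_right hr)) _).1 (hbt _ hu2)) ?_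
          have := inv_mem (hbt _ hu1)
          rwa [show (b * (b⁻¹ * u * b) * b⁻¹ * (b⁻¹ * u * b)⁻¹)⁻¹ = b⁻¹ * u * b * u⁻¹ by group] at this
      rw [commutator_le]
      intro u hu q hq
      have := inv_mem ((hQK hq).2 u hu)
      rwa [show (q * u * q⁻¹ * u⁻¹)⁻¹ = ⁅u, q⁆ by simp [commutatorElement_def, mul_assoc]] at this
    have hUQ0 : ⁅U, Q⁆ = ⊥ := by
      obtain ⟨m, hm⟩ := IsPGroup.iff_card.1 hUp
      have : Group.IsNilpotent U := hUp.isNilpotent
      refine Cfsg.Lib.Coprime.commutator_eq_bot_of_stabilizes (hUn Q) ?_ (Or.inr inferInstance) hUQ ?_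
      · rw [hm]; exact (hR.coprime_dvd_left (card_dvd_of_le hQR)).pow_right m
      · exact commutator_eq_bot_iff_le_centralizer.2 (hTR.trans (centralizer_le hQR))
    have hQ0 : Q = ⊥ := hd Q (hR.coprime_dvd_left (card_dvd_of_le hQR))
      (commutator_eq_bot_iff_le_centralizer.1 ((commutator_comm _ _).trans hUQ0))
    exact hAB B R le_rfl le_rfl (commutator_eq_bot_iff_le_centralizer.1 hQ0) hfix

/-- In a p-constrained group, a p'-subgroup normalized by an abelian p-subgroup `B` containing every p-element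
of its centralizer lies in the p'-core (`p` odd, or class at most two). -/
theorem le_pPrimeCore_of_invariant (hG : Cfsg.IsPConstrained p X) {B R : Subgroup X} (hBp : IsPGroup p B)
    (hBa : IsMulCommutative B) (hB : ∀ x ∈ centralizer (B : Set X), IsPGroup p (zpowers x) → x ∈ B)
    (hR : (Nat.card R).Coprime p) (hBR : B ≤ normalizer (R : Set X))
    (hcl : p ≠ 2 ∨ ∀ (S : Sylow p X), ∀ x ∈ (S : Subgroup X), ∀ y ∈ (S : Subgroup X), ∀ z ∈ (S : Subgroup X),
      ⁅x, y⁆ * z = z * ⁅x, y⁆) :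
    R ≤ Cfsg.pPrimeCore p X := by
  set N := Cfsg.pPrimeCore p X with hN
  set f := QuotientGroup.mk' N with hf
  have hNcop : (Nat.card N).Coprime p := Cfsg.Lib.Core.pPrimeCore_coprime p X
  have hRc : (Nat.card (R.map f)).Coprime p := hR.coprime_dvd_left (card_map_dvd R f)
  have hBR' : B.map f ≤ normalizer ((R.map f : Subgroup (X ⧸ N)) : Set (X ⧸ N)) :=
    (map_mono hBR).trans (le_normalizer_map f)
  have hBa' : IsMulCommutative (B.map f) := by
    constructor; constructor
    rintro ⟨_, a, ha, rfl⟩ ⟨_, b, hb, rfl⟩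
    refine Subtype.ext ?_
    show f a * f b = f b * f a
    rw [← map_mul, ← map_mul]
    exact congrArg f (congrArg Subtype.val (hBa.is_comm.comm ⟨a, ha⟩ ⟨b, hb⟩))
  have hfix : Cfsg.pCore p (X ⧸ N) ⊓ centralizer ((B.map f : Subgroup (X ⧸ N)) : Set (X ⧸ N)) ≤
      centralizer ((R.map f : Subgroup (X ⧸ N)) : Set (X ⧸ N)) := by
    rintro y ⟨hyU, hyB⟩
    rw [SetLike.mem_coe, hf, Cfsg.Lib.Sig.centralizer_map_mk' N hNcop hBp] at hyB
    obtain ⟨c, hc, rfl⟩ := hyB
    obtain ⟨j, hj⟩ := IsPGroup.iff_orderOf.1 (Cfsg.Lib.Core.pCore_isPGroup p (X ⧸ N)) ⟨_, hyU⟩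
    rw [orderOf_mk] at hj
    have hcj : c ^ p ^ j ∈ N := by
      rw [← QuotientGroup.eq_one_iff, ← QuotientGroup.mk'_apply, map_pow, ← hj]; exact pow_orderOf_eq_one _
    obtain ⟨u, -, hu⟩ := Nat.exists_mul_mod_eq_one_of_coprime (n := Nat.card N) (k := p ^ (j + 1))
      (hNcop.pow_right (j + 1)) (Nat.one_lt_pow (by omega) hp.out.one_lt)
    have hcB : c ^ (Nat.card N * u) ∈ B := by
      refine hB _ (pow_mem hc _) ?_
      have h1 : (c ^ (Nat.card N * u)) ^ p ^ j = 1 := by
        rw [← pow_mul, show Nat.card N * u * p ^ j = p ^ j * Nat.card N * u by ring, pow_mul, pow_mul,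
          orderOf_dvd_iff_pow_eq_one.1 (N.orderOf_dvd_natCard hcj), one_pow]
      obtain ⟨i, -, hi⟩ := (Nat.dvd_prime_pow hp.out).1 (orderOf_dvd_of_pow_eq_one h1)
      exact IsPGroup.of_card (n := i) (by rw [Nat.card_zpowers, hi])
    have hfc : f (c ^ (Nat.card N * u)) = f c := by
      have h2 := Nat.mod_add_div (Nat.card N * u) (p ^ (j + 1))
      rw [hu] at h2
      rw [← h2, map_pow, pow_add, pow_one, pow_mul, pow_succ, pow_mul, ← hj, pow_orderOf_eq_one, one_pow, one_pow, mul_one]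
    refine mem_centralizer_iff.2 fun r hr => ?_
    have hB' : f c ∈ B.map f := hfc ▸ mem_map_of_mem f hcB
    have hU' : f c ∈ Cfsg.pCore p (X ⧸ N) := hyU
    have h3 : r * f c * r⁻¹ * (f c)⁻¹ ∈ Cfsg.pCore p (X ⧸ N) :=
      mul_mem (Normal.conj_mem inferInstance _ hU' r) (inv_mem hU')
    have h4 : r * f c * r⁻¹ * (f c)⁻¹ ∈ R.map f := by
      rw [show r * f c * r⁻¹ * (f c)⁻¹ = r * (f c * r⁻¹ * (f c)⁻¹) by group]
      exact mul_mem hr ((mem_normalizer_iff.1 (hBR' hB') _).1 (inv_mem hr))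
    have h5 : r * f c * r⁻¹ * (f c)⁻¹ = 1 := mem_bot.1
      (Cfsg.Lib.Sig.disjoint_of_isPGroup_coprime (Cfsg.Lib.Core.pCore_isPGroup p _) hRc ▸ mem_inf.2 ⟨h3, h4⟩)
    rwa [mul_inv_eq_one, mul_inv_eq_iff_eq_mul] at h5
  have h := eq_bot_of_centralizes_fixed (Cfsg.Lib.Sig.isPConstrained_iff.1 hG) (hBp.map f) hBa' hRc hBR' hfix
    (hcl.imp id fun hS => ?_)
  · rwa [Subgroup.map_eq_bot_iff, hf, QuotientGroup.ker_mk'] at h
  · obtain ⟨S, hBS⟩ := hBp.exists_le_sylow
    refine ⟨S.mapSurjective (QuotientGroup.mk'_surjective N), map_mono hBS, ?_⟩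
    rintro _ ⟨x, hx, rfl⟩ _ ⟨y, hy, rfl⟩ _ ⟨z, hz, rfl⟩
    rw [← map_commutatorElement, ← map_mul, ← map_mul, hS S x hx y hy z hz]

end Cfsg.Lib.Transit
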